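import Groth.Agent.L14.Chev.Cell.WeightGen
import Groth.Agent.L14.Chev.Cell.NormWeyl
import Groth.Agent.L14.Luna.SemiRank.SplitField
import Groth.Agent.L14.Luna.SemiRank.RootBase
import Groth.Agent.L14.Luna.DimInj
import Groth.Agent.L08.Borel.ImageTorus
import Groth.Agent.L08.Borel.CentKernel
import Groth.Agent.L08.Borel.MaxTorusDesc
import Mathlib.LinearAlgebra.Dimension.Torsion.Finite
import Groth.Agent.S14754
import Groth.Agent.L25.SplitSub.KernelLocal
import Mathlib.RingTheory.IntegralClosure.Algebra.Basic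

/-!
# The isogeny of root data of an isogeny of split reductive groups
-/

set_option autoImplicit false
set_option backward.isDefEq.respectTransparency.types false
set_option linter.style.haveILetI false
set_option linter.unusedSectionVars false
set_option maxHeartbeats 1000000

universe u

open CategoryTheory CategoryTheory.Limits MonoidalCategory CartesianMonoidalCategory MonObj GrpObj AlgebraicGeometry
open Groth.L14.RankOne Groth.L25 Groth.L14.Chart Groth.L14.Chev.Cell

noncomputable section

namespace Groth.L14.Isog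

/-- Exponents of additive monomials. -/
theorem isPow_of_add {k : Type u} [Field k] {i : ℕ} (hi : 0 < i)
    (h : (Polynomial.X + 1 : Polynomial k) ^ i = Polynomial.X ^ i + 1) : ∃ m, i = ringExpChar k ^ m := by
  have hco : ∀ j, 0 < j → j < i → (i.choose j : k) = 0 := fun j h1 h2 => by
    have := congrArg (fun p => Polynomial.coeff p j) h
    simpa [Polynomial.coeff_X_add_one_pow, Polynomial.coeff_X_pow, Polynomial.coeff_one, h2.ne, h1.ne'] using this
  rcases CharP.exists' k with h0 | ⟨p, hp, hc⟩
  · refine ⟨0, ?_⟩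
    rw [pow_zero]
    by_contra hne
    have := hco 1 one_pos (by omega)
    rw [Nat.choose_one_right, Nat.cast_eq_zero] at this
    omega
  · haveI := hc
    haveI := hp
    haveI : ExpChar k p := ExpChar.prime hp.1
    obtain ⟨m, r, hr, rfl⟩ := Nat.exists_eq_pow_mul_and_not_dvd hi.ne' p hp.1.ne_one
    refine ⟨m, ?_⟩
    rw [ringExpChar.eq k p]
    suffices r = 1 by rw [this, _root_.mul_one]
    by_contra hne
    have hr0 : 0 < r := Nat.pos_of_mul_pos_left hi
    have hq : 0 < p ^ m := pow_pos hp.1.pos m
    have := hco (p ^ m) hq (lt_mul_of_one_lt_right hq (by omega))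
    have hl : ((p ^ m * r).choose (p ^ m) : k) = r := by
      have h2 := congrArg (fun P => Polynomial.coeff P (p ^ m))
        (show ((Polynomial.X : Polynomial k) + 1) ^ (p ^ m * r) = Polynomial.expand k (p ^ m) ((Polynomial.X + 1) ^ r) by
          rw [pow_mul, add_pow_char_pow, one_pow]; simp)
      rw [Polynomial.coeff_X_add_one_pow] at h2
      have h3 := Polynomial.coeff_expand_mul hq ((Polynomial.X + 1 : Polynomial k) ^ r) 1
      rw [_root_.one_mul] at h3
      rw [h2, h3, Polynomial.coeff_X_add_one_pow, Nat.choose_one_right]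
    rw [hl, CharP.cast_eq_zero_iff k p] at this
    exact hr this

variable {k : Type u} [Field k]

local notation "SK" => Spec (CommRingCat.of k)
local notation "jk" => 𝟙 (Spec (CommRingCat.of k))

/-- The functions of a finite scheme over a field are integral at every point. -/
theorem isIntegral_of_isFinite {X : Over (Spec (CommRingCat.of k))} [IsFinite X.hom] {C : Type u} [CommRing C]
    [Algebra k C] (x : Sp jk C ⟶ X) (r : Γ(X.left, ⊤)) :
    IsIntegral k ((Scheme.ΓSpecIso (CommRingCat.of C)).hom (x.left.appTop r)) := by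
  have hf : (X.hom.appTop).hom.Finite := X.hom.finite_appTop
  obtain ⟨p, hp, hpr⟩ := hf.to_isIntegral r
  have hw : x.left ≫ X.hom = Spec.map (CommRingCat.ofHom (algebraMap k C)) := (Over.w x).trans (Category.comp_id _)
  let φ : Γ(X.left, ⊤) →+* C := (x.left.appTop ≫ (Scheme.ΓSpecIso (CommRingCat.of C)).hom).hom
  have hφ : φ.comp X.hom.appTop.hom = (algebraMap k C).comp (Scheme.ΓSpecIso (CommRingCat.of k)).hom.hom := by
    have h1 : X.hom.appTop ≫ x.left.appTop = (Spec.map (CommRingCat.ofHom (algebraMap k C))).appTop := by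
      rw [← Scheme.Hom.comp_appTop, hw]
    have h2 := Scheme.ΓSpecIso_naturality (CommRingCat.ofHom (algebraMap k C))
    refine RingHom.ext fun a => ?_
    show (Scheme.ΓSpecIso (CommRingCat.of C)).hom (x.left.appTop (X.hom.appTop a)) = _
    rw [← CommRingCat.comp_apply X.hom.appTop x.left.appTop, h1, ← CommRingCat.comp_apply, h2]
    rfl
  refine ⟨p.map (Scheme.ΓSpecIso (CommRingCat.of k)).hom.hom, hp.map _, ?_⟩
  show Polynomial.eval₂ (algebraMap k C) (φ r) _ = 0
  rw [Polynomial.eval₂_map, ← hφ, ← Polynomial.hom_eval₂, hpr, map_zero]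

theorem not_isFinite_Ga : ¬ IsFinite (Red.Ga SK).hom := fun h => by
  have h1 := isIntegral_of_isFinite (gp jk (Polynomial.X : Polynomial k)) (Red.gaFn (𝟙 (Red.Ga SK)))
  rw [← GaPts.gaFn_comp, Category.comp_id] at h1
  change IsIntegral k (gv (gp jk (Polynomial.X : Polynomial k))) at h1
  rw [gv_gp] at h1
  exact Polynomial.transcendental_X k h1.isAlgebraic

theorem not_isFinite_DS : ¬ IsFinite (Red.DS SK ℤ).hom := fun h => by
  let χ : Multiplicative ℤ →* LaurentPolynomial k :=
    { toFun := fun m => LaurentPolynomial.T m.toAdd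
      map_one' := LaurentPolynomial.T_zero
      map_mul' := fun a c => LaurentPolynomial.T_add a.toAdd c.toAdd }
  let x := (SplitSub.stdChart jk ℤ).pt χ
  have h1 := isIntegral_of_isFinite x (DSPts.char (𝟙 (Red.DS SK ℤ)) (Multiplicative.ofAdd 1))
  rw [← DSPts.char_comp, Category.comp_id] at h1
  simp only [x, SplitSub.stdChart, DSPts.char_pt] at h1
  change IsIntegral k ((Scheme.ΓSpecIso (CommRingCat.of (LaurentPolynomial k))).hom
    ((Scheme.ΓSpecIso (CommRingCat.of (LaurentPolynomial k))).inv (LaurentPolynomial.T 1))) at h1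
  rw [Iso.inv_hom_id_apply, ← Polynomial.toLaurent_X] at h1
  exact Polynomial.transcendental_X k
    ((isIntegral_algHom_iff (Polynomial.toLaurentAlg (R := k)) Polynomial.toLaurent_injective).1 h1).isAlgebraic

/-- A finite homomorphism kills no closed subscheme which is not finite. -/
theorem isFinite_of_killed {X G G' : Over (Spec (CommRingCat.of k))} [GrpObj G] [GrpObj G'] [IsAffine G'.left]
    (inc : X ⟶ G) [IsClosedImmersion inc.left] (ψ : G ⟶ G') [IsFinite ψ.left] (h : inc ≫ ψ = 1) : IsFinite X.hom := by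
  haveI : IsSeparated G'.hom := inferInstance
  haveI : IsFinite (X.hom ≫ (η[G'] : _ ⟶ G').left) := by
    have e : (inc ≫ ψ).left = X.hom ≫ (η[G'] : _ ⟶ G').left := by
      rw [h, Hom.one_def, Over.comp_left]
      congr 1
    rw [← e]
    exact inferInstanceAs (IsFinite (inc.left ≫ ψ.left))
  have h2 : X.hom = (X.hom ≫ (η[G'] : _ ⟶ G').left) ≫ G'.hom := by
    rw [Category.assoc, Over.w (η[G'] : _ ⟶ G'), show (𝟙_ (Over SK)).hom = 𝟙 SK from rfl, Category.comp_id]
  haveI : IsClosedImmersion (η[G'] : _ ⟶ G').left := by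
    haveI : IsClosedImmersion ((η[G'] : _ ⟶ G').left ≫ G'.hom) := by
      rw [Over.w (η[G'] : _ ⟶ G')]
      exact inferInstanceAs (IsClosedImmersion (𝟙 SK))
    exact IsClosedImmersion.of_comp _ G'.hom
  exact IsFinite.of_comp X.hom (η[G'] : _ ⟶ G').left

section Split

attribute [local instance] Red.SplitRed.grpT Red.SplitRed.acgM Red.SplitRed.finiteM Red.SplitRed.freeM
  Red.SplitRed.fintypeIdx

variable {G : Over (Spec (CommRingCat.of k))} [GrpObj G] (D : Red.SplitRed G)

theorem isClosedImmersion_i : IsClosedImmersion D.i.left := by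
  haveI := D.maximalTorus.1; haveI := D.maximalTorus.2.1; haveI : IsAffineHom G.hom := D.reductive.1
  exact Locus.isClosedImmersion_of_mono
    (Locus.locally_of_multTypeFT (Locus.isMultTypeFT_of_isTorus D.maximalTorus.2.2.1)) D.i

/-- The action of a product of reflections on characters. -/
theorem wordChar_apply {C : Type u} [CommRing C] (l : List D.idx) (ψ : Multiplicative D.M →* C) (m : D.M) :
    wordChar l ψ (Multiplicative.ofAdd m) =
      ψ (Multiplicative.ofAdd (((l.reverse.map fun a => D.P.reflection a).prod : D.M ≃ₗ[ℤ] D.M) m)) := by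
  induction l generalizing m with
  | nil => rfl
  | cons a l ih =>
    show wordChar l ψ (Multiplicative.ofAdd (D.P.reflection a m)) = _
    rw [ih, List.reverse_cons, List.map_append, List.prod_append, List.map_singleton, List.prod_singleton]
    rfl

theorem prod_refl_root (l : List D.idx) (c : D.idx) :
    ((l.map fun a => D.P.reflection a).prod : D.M ≃ₗ[ℤ] D.M) (D.P.root c) = D.P.root (RedSub.wordPerm D.P l c) := by
  induction l with
  | nil => simp [RedSub.wordPerm]
  | cons a l ih =>
    rw [List.map_cons, List.prod_cons, wordPerm_cons, D.P.root_reflectionPerm, ← ih]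
    rfl

/-- A product of reflections fixing all the roots is trivial. -/
theorem prod_refl_eq_one (b : D.P.Base) (l : List D.idx) (h : ∀ c, RedSub.wordPerm D.P l c = c) (m : D.M) :
    ((l.map fun a => D.P.reflection a).prod : D.M ≃ₗ[ℤ] D.M) m = m := by
  have h' : ∀ c, RedSub.wordPerm D.P l.reverse c = c := fun c => by
    have := DFunLike.congr_fun (wordPerm_reverse_mul (D := D) l) c
    simp only [Equiv.Perm.mul_apply, h, Equiv.Perm.one_apply] at this
    exact this
  have e := DFunLike.congr_fun (wordChar_eq_self b l.reverse (fun a _ => h' a)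
    (MonoidAlgebra.of k (Multiplicative D.M))) (Multiplicative.ofAdd m)
  rw [wordChar_apply, List.reverse_reverse] at e
  exact Multiplicative.ofAdd.injective (MonoidAlgebra.of_injective e)

theorem dual_apply (a : D.idx) (m : D.M) : D.P.reflection a m = m - D.P.coroot a m • D.P.root a := by
  rw [RootPairing.reflection_apply]
  congr 2
  show D.P.toLinearMap m (D.P.coroot a) = _
  rw [D.pairing_eq]
  rfl

variable {G' : Over (Spec (CommRingCat.of k))} [GrpObj G'] (D' : Red.SplitRed G')

/-- A map of character groups induces the homomorphism of tori. -/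
theorem exists_charMap (φ : D.T ⟶ D'.T) [IsMonHom φ] :
    ∃ f : D'.M →+ D.M, φ = D.split.hom.hom.hom ≫ Red.DSmap SK f ≫ D'.split.inv.hom.hom := by
  haveI : IsMonHom D.split.inv.hom.hom := inferInstance
  haveI : IsMonHom D'.split.hom.hom.hom := inferInstance
  haveI : Monoid.FG (Multiplicative D'.M) :=
    AddMonoid.fg_iff_mul_fg.1 (AddGroup.fg_iff_addMonoid_fg.1 (Module.Finite.iff_addGroup_fg.1 inferInstance))
  haveI : IsMonHom (D.split.inv.hom.hom ≫ φ ≫ D'.split.hom.hom.hom) := inferInstance
  obtain ⟨f, hf⟩ := Groth.Agent.S14754.exists_DSmap (D.split.inv.hom.hom ≫ φ ≫ D'.split.hom.hom.hom)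
  exact ⟨f, by rw [← hf]; simp only [Category.assoc, split_hom_inv, Category.comp_id, reassoc_of% split_hom_inv]⟩

theorem surjective_torus (ψ : G ⟶ G') [IsMonHom ψ] [Surjective ψ.left] (φ : D.T ⟶ D'.T)
    (hφ : φ ≫ D'.i = D.i ≫ ψ) : Surjective φ.left := by
  haveI : IsAffineHom G.hom := D.reductive.1
  haveI : IsAffineHom G'.hom := D'.reductive.1
  haveI := D.reductive.2.1; haveI := D'.reductive.2.1
  haveI := isClosedImmersion_i D'; haveI := D'.maximalTorus.1; haveI := D'.maximalTorus.2.1
  have hψ : ∀ s : SK, Surjective ((Over.pullback (Red.geomPt s)).map ψ).left := fun s =>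
    MorphismProperty.of_isPullback (Groth.L25.SchImage.isPullback_fst_map (Red.geomPt s) ψ) ‹_›
  obtain ⟨T₁, g₁, i₁, v, hT₁, hv, hvi, hvs, -⟩ := Groth.L08.Borel.exists_image_maximalTorus ψ hψ D.maximalTorus
  haveI := hvs; haveI := hv; haveI := hT₁.1; haveI := hT₁.2.1
  haveI := Groth.L08.Borel.smooth_of_isTorus hT₁.2.2.1
  haveI : IsReduced T₁.left := Groth.Agent.AV.isReduced_of_smooth_field T₁.hom
  obtain ⟨w, hw⟩ := Groth.L19.AlgGrpBasic.exists_lift_of_range D'.i i₁ (by
    rintro _ ⟨y, rfl⟩
    obtain ⟨x, rfl⟩ := v.left.surjective y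
    exact ⟨φ.left x, by rw [← Scheme.Hom.comp_apply, ← Scheme.Hom.comp_apply, ← Over.comp_left, ← Over.comp_left,
      hφ, hvi]⟩)
  have hvw : v ≫ w = φ := by rw [← cancel_mono D'.i, Category.assoc, hw, hvi, hφ]
  haveI : IsMonHom w := Groth.L08.Borel.isMonHom_of_comp_mono w D'.i i₁ hw
  haveI : Surjective w.left := Groth.L08.Borel.surjective_of_geomFibres w fun s => by
    let F := Over.pullback (Red.geomPt s)
    haveI : IsMonHom (F.map D'.i) := Groth.L25.MonoClosed.isMonHom_pullbackMap _ _
    haveI : Mono (F.map D'.i) := Functor.map_mono _ _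
    haveI : IsIso (F.map w) := hT₁.2.2.2 s _ (F.map D'.i) (F.map w)
      (Groth.L25.Locus.isTorus_bc D'.maximalTorus.2.2.1 _) (by rw [← Functor.map_comp, hw])
    haveI : IsIso (F.map w).left := inferInstanceAs (IsIso ((Over.forget _).map (F.map w)))
    infer_instance
  rw [← hvw]
  exact inferInstanceAs (Surjective (v.left ≫ w.left))

variable {D D'} {f : D'.M →+ D.M}

theorem tpt_comp {φ : D.T ⟶ D'.T} (hf : φ = D.split.hom.hom.hom ≫ Red.DSmap SK f ≫ D'.split.inv.hom.hom)
    {C : Type u} [CommRing C] [Algebra k C] (χ : Multiplicative D.M →* C) :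
    tpt D jk χ ≫ φ = tpt D' jk (χ.comp (AddMonoidHom.toMultiplicative f)) := by
  rw [hf, ← Category.assoc, tpt_hom, tpt, ← Category.assoc]
  exact congrArg (· ≫ D'.split.inv.hom.hom) (SplitSub.stdChart_pt_DSmap jk χ f)

theorem DSmap_injective' {N M : Type} [AddCommGroup N] [AddCommGroup M] {α β : M →+ N}
    (h : Red.DSmap SK α = Red.DSmap SK β) : α = β := Groth.Agent.S14754.DSmap_injective (k := k) h

variable (D D') in
set_option maxHeartbeats 2000000 in
/-- **An isogeny of split reductive groups gives an isogeny of root data.** -/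
theorem exists_rootIsog (ψ : G ⟶ G') [IsMonHom ψ] [Surjective ψ.left] [IsFinite ψ.left]
    (φ : D.T ⟶ D'.T) (hφ : φ ≫ D'.i = D.i ≫ ψ) :
    ∃ ρ : AGF.RootIsog D.P D'.P (ringExpChar k),
      D.split.inv.hom.hom ≫ φ ≫ D'.split.hom.hom.hom = Red.DSmap SK ρ.f.toAddMonoidHom := by
  classical
  haveI : Finite D.idx := Finite.of_fintype _
  haveI : Finite D'.idx := Finite.of_fintype _
  haveI : IsAddTorsionFree D.M := .of_isTorsionFree ℤ _
  haveI : IsAddTorsionFree D'.M := .of_isTorsionFree ℤ _
  haveI : IsAffineHom G.hom := D.reductive.1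
  haveI : IsAffineHom G'.hom := D'.reductive.1
  haveI : IsAffine G'.left := isAffine_of_isAffineHom G'.hom
  haveI := D.reductive.2.1; haveI := D'.reductive.2.1
  haveI := isMonHom_i (D := D); haveI := isMonHom_i (D := D')
  haveI := D.maximalTorus.2.1; haveI := D'.maximalTorus.2.1
  haveI : ∀ c, IsMonHom (D.u c) := fun c => (D.rootHom c).1
  haveI : ∀ c, IsMonHom (D'.u c) := fun c => (D'.rootHom c).1
  haveI := isClosedImmersion_i D'; haveI := isClosedImmersion_i D
  haveI : Nonempty ↥SK := inferInstanceAs (Nonempty (PrimeSpectrum k))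
  haveI : D.P.IsReduced := Groth.L14.Luna.SemiRank.isReduced_splitRed D
  obtain ⟨bD, -⟩ := Groth.L14.Luna.SemiRank.exists_base_ge (P := D.P) (R' := ∅)
    (fun i _ _ hi _ _ => absurd hi (Set.notMem_empty i)) (fun i hi => absurd hi (Set.notMem_empty i))
  haveI : D'.P.IsReduced := Groth.L14.Luna.SemiRank.isReduced_splitRed D'
  obtain ⟨bD', -⟩ := Groth.L14.Luna.SemiRank.exists_base_ge (P := D'.P) (R' := ∅)
    (fun i _ _ hi _ _ => absurd hi (Set.notMem_empty i)) (fun i hi => absurd hi (Set.notMem_empty i))
  haveI : IsMonHom φ := Groth.L08.Borel.isMonHom_of_comp_mono φ D'.i (D.i ≫ ψ) hφ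
  obtain ⟨f, hf⟩ := exists_charMap D D' φ
  haveI hsurj := surjective_torus D D' ψ φ hφ
  -- injectivity
  have hinj : Function.Injective f := by
    refine (injective_iff_map_eq_zero f).2 fun m hm => ?_
    have h1 : (zmultiplesHom _ m : ℤ →+ D'.M) = 0 := by
      refine DSmap_injective' (k := k) ?_
      rw [Groth.Agent.S14754.DSmap_zero]
      haveI : IsReduced D'.T.left := by
        haveI := Groth.L08.Borel.smooth_of_isTorus D'.maximalTorus.2.2.1
        exact Groth.Agent.AV.isReduced_of_smooth_field D'.T.hom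
      haveI : IsIso D'.split.inv.hom.hom := ⟨_, split_inv_hom, split_hom_inv⟩
      rw [← cancel_epi D'.split.hom.hom.hom, MonObj.comp_one]
      have e : φ ≫ D'.split.hom.hom.hom ≫ Red.DSmap SK (zmultiplesHom _ m : ℤ →+ D'.M) = 1 := by
        rw [hf]
        simp only [Category.assoc, reassoc_of% split_inv_hom]
        rw [TorusTorsion.DSmap_comp, show f.comp (zmultiplesHom _ m : ℤ →+ D'.M) = 0 from
          AddMonoidHom.ext_int (by simpa using hm), Groth.Agent.S14754.DSmap_zero, MonObj.comp_one]
      haveI : IsAffineHom (Red.DS SK ℤ).hom := MorphismProperty.pullback_snd _ _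
        (inferInstanceAs (IsAffineHom (Spec.map (CommRingCat.ofHom
          (algebraMap (ULift.{u} ℤ) (MonoidAlgebra (ULift.{u} ℤ) (Multiplicative ℤ)))))))
      refine Over.OverMorphism.ext (ext_of_isDominant_of_isSeparated (Red.DS SK ℤ).hom
        ((Over.w _).trans (Over.w (1 : D'.T ⟶ Red.DS SK ℤ)).symm) φ.left ?_)
      rw [← Over.comp_left, ← Over.comp_left, e, MonObj.comp_one]
    simpa using DFunLike.congr_fun h1 1
  -- the finite kernel
  have hker : ∀ g : D.M →+ ℤ, Function.Surjective g → g.comp f ≠ 0 := by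
    intro g hg h0
    haveI := SplitSub.mono_DSmap (S := SK) g hg
    haveI : IsMonHom (Red.DSmap SK g) := TorusTorsion.isMonHom_DSmap _ _
    haveI : IsMonHom D.split.inv.hom.hom := inferInstance
    haveI : IsIso D.split.inv.hom.hom := ⟨_, split_inv_hom, split_hom_inv⟩
    let inc : Red.DS SK ℤ ⟶ G := Red.DSmap SK g ≫ D.split.inv.hom.hom ≫ D.i
    haveI : Mono inc := mono_comp _ _
    haveI : IsMonHom inc := inferInstance
    have hι : inc ≫ ψ = 1 := by
      simp only [inc, Category.assoc, ← hφ]
      rw [hf]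
      simp only [Category.assoc, reassoc_of% split_inv_hom]
      rw [← Category.assoc (Red.DSmap SK g), TorusTorsion.DSmap_comp, h0, Groth.Agent.S14754.DSmap_zero, MonObj.one_comp]
    haveI : IsClosedImmersion inc.left := Locus.isClosedImmersion_of_mono
      (Locus.locally_of_multTypeFT (SplitSub.isMultTypeFT_DS SK ℤ
        (Module.Finite.iff_addGroup_fg.1 inferInstance))) inc
    exact not_isFinite_DS (isFinite_of_killed inc ψ hι)
  -- the roots
  obtain ⟨n', eneg, hneg⟩ := exists_enum (D := D') (RedSub.negRoots D'.P bD')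
  obtain ⟨m', epos, hpos⟩ := exists_enum (D := D') (RedSub.posRoots D'.P bD')
  have hroot : ∀ a : D.idx, ∃ (d : D'.idx) (i : ℕ), 0 < i ∧ (∃ m, i = ringExpChar k ^ m) ∧
      f (D'.P.root d) = (i : ℤ) • D.P.root a := by
    intro a
    have heq : Equivariant (D := D') (D₀ := D) jk f a (D.u a ≫ ψ) := fun C _ _ χ x => by
      rw [conjT, ← tpt_comp hf χ, Category.assoc (tpt D jk χ), hφ, ← Category.assoc (tpt D jk χ),
        ← Category.assoc (gp jk x), ← GrpObj.inv_comp, ← MonObj.mul_comp, ← MonObj.mul_comp,
        conj_root jk D.rootHom χ a x, Category.assoc]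
    rcases exists_monomial_of_cell hneg hpos hinj heq with h1 | ⟨d, i, r, hi, hr, hd, hmono⟩
    · exfalso
      haveI := (D.rootHom a).2.1
      refine not_isFinite_Ga (k := k) (isFinite_of_killed (D.u a) ψ (hom_ext_affine fun R _ j t => ?_))
      letI : Algebra k R := (Spec.preimage j).hom.toAlgebra
      have hj : Spec.map (CommRingCat.ofHom (algebraMap k R)) = j := Spec.map_preimage j
      let e : Over.mk j ⟶ Sp jk R := Over.homMk (𝟙 _) (by simp [hj])
      let e' : Sp jk R ⟶ Over.mk j := Over.homMk (𝟙 _) (by simp [hj])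
      have hee : e ≫ e' = 𝟙 _ := Over.OverMorphism.ext (Category.id_comp _)
      rw [MonObj.comp_one, ← Category.id_comp (t ≫ D.u a ≫ ψ), ← hee, Category.assoc e e', ← Category.assoc e' t,
        ← gp_gv (e' ≫ t), h1 R (gv (e' ≫ t)), MonObj.comp_one]
    · refine ⟨d, i, hi, isPow_of_add hi ?_, by rw [hd, natCast_zsmul]⟩
      haveI : IsMonHom (D.u a ≫ ψ) := inferInstance
      have hadd := gp_u_injective (D := D') (j := jk) (c := d) (C := Polynomial k)
        (x := algebraMap k (Polynomial k) r * (Polynomial.X + 1) ^ i)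
        (y := algebraMap k (Polynomial k) r * Polynomial.X ^ i + algebraMap k (Polynomial k) r * (1 : Polynomial k) ^ i)
        (by rw [← hmono, gp_add, MonObj.mul_comp, gp_add, MonObj.mul_comp, hmono, hmono])
      rw [← mul_add, one_pow] at hadd
      exact mul_left_cancel₀ (by simpa using hr) hadd
  choose e i hi hipow he using hroot
  have heinj : Function.Injective e := fun a c h => by
    have h1 : (i c : ℤ) • D.P.root c = (i a : ℤ) • D.P.root a := by rw [← he, ← he, h]
    rcases eq_or_neg_of_dep D.P bD (Int.natCast_ne_zero.2 (hi c).ne') h1 with h2 | h2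
    · exact h2.symm
    · rw [h2, smul_neg, ← neg_smul] at h1
      have := smul_left_injective ℤ (D.P.ne_zero a) h1
      have := hi a
      omega
  -- finite cokernel
  have hcoker : Finite (D.M ⧸ LinearMap.range f.toIntLinearMap) := by
    refine Module.finite_of_fg_torsion _ fun {x} => ?_
    by_contra hx
    let T := Submodule.torsion ℤ (D.M ⧸ LinearMap.range f.toIntLinearMap)
    haveI : Module.IsTorsionFree ℤ ((D.M ⧸ LinearMap.range f.toIntLinearMap) ⧸ T) := inferInstance
    haveI : Module.Free ℤ ((D.M ⧸ LinearMap.range f.toIntLinearMap) ⧸ T) := Module.free_of_finite_type_torsion_free'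
    obtain ⟨g₀, hg₀⟩ := exists_dual_ne (x := T.mkQ x) fun h => hx ((Submodule.Quotient.mk_eq_zero _).1 h)
    let g₁ : D.M →+ ℤ := (g₀ ∘ₗ T.mkQ ∘ₗ (LinearMap.range f.toIntLinearMap).mkQ).toAddMonoidHom
    have hg₁ : ∀ m, g₁ (f m) = 0 := fun m => by
      show g₀ (T.mkQ ((LinearMap.range f.toIntLinearMap).mkQ (f m))) = 0
      rw [show (LinearMap.range f.toIntLinearMap).mkQ (f m) = 0 from
        (Submodule.Quotient.mk_eq_zero _).2 ⟨m, rfl⟩, map_zero, map_zero]
    have hne : g₁ ≠ 0 := fun h => by
      obtain ⟨y, rfl⟩ := Submodule.mkQ_surjective _ x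
      exact hg₀ (DFunLike.congr_fun h y)
    obtain ⟨d, hd⟩ := Int.subgroup_cyclic g₁.range
    rw [← AddSubgroup.zmultiples_eq_closure] at hd
    have hdiv : ∀ m, d ∣ g₁ m := fun m => by
      have : g₁ m ∈ g₁.range := ⟨m, rfl⟩
      rw [hd] at this
      exact Int.mem_zmultiples_iff.1 this
    let g : D.M →+ ℤ := AddMonoidHom.mk' (fun m => g₁ m / d) fun a c => by
      rw [map_add, Int.add_ediv_of_dvd_left (hdiv a)]
    have hd0 : d ≠ 0 := fun h => hne (AddMonoidHom.ext fun m => by simpa [h] using hdiv m)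
    refine hker g (fun z => ?_) (AddMonoidHom.ext fun m => by simp [g, hg₁])
    obtain ⟨m, hm⟩ : d * z ∈ g₁.range := by rw [hd, Int.mem_zmultiples_iff]; exact dvd_mul_right d z
    exact ⟨m, by simp [g, hm, hd0]⟩
  have hrank : Module.finrank ℤ D'.M = Module.finrank ℤ D.M := by
    have h1 := LinearMap.finrank_range_of_inj (f := f.toIntLinearMap) hinj
    have h2 := Submodule.finrank_quotient_add_finrank (LinearMap.range f.toIntLinearMap)
    rw [← h1]
    have h3 : Module.finrank ℤ (D.M ⧸ LinearMap.range f.toIntLinearMap) = 0 :=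
      Module.finrank_eq_zero_iff_isTorsion.2 fun {x} => by
        haveI := hcoker
        exact ⟨⟨(Nat.card (D.M ⧸ LinearMap.range f.toIntLinearMap) : ℤ), mem_nonZeroDivisors_of_ne_zero
          (Int.natCast_ne_zero.2 Nat.card_pos.ne')⟩, by
            show (Nat.card (D.M ⧸ LinearMap.range f.toIntLinearMap) : ℤ) • x = 0
            rw [natCast_zsmul]; exact card_nsmul_eq_zero'⟩
    omega
  have hcard : Fintype.card D'.idx ≤ Fintype.card D.idx := by
    obtain ⟨s⟩ := ‹Nonempty ↥SK›
    let ψs := ((Over.pullback (Red.geomPt s)).map ψ).left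
    haveI : Surjective ψs := MorphismProperty.of_isPullback (Groth.L25.SchImage.isPullback_fst_map _ ψ) ‹_›
    haveI : IsFinite ψs := MorphismProperty.of_isPullback (Groth.L25.SchImage.isPullback_fst_map _ ψ) ‹_›
    have h1 := Groth.L14.Luna.topologicalKrullDim_le_of_surjective (g := ⇑ψs) ψs.continuous ψs.surjective
      ψs.isClosedMap.specializingMap
    change topologicalKrullDim ↥(Red.geomFibre s G').left ≤ topologicalKrullDim ↥(Red.geomFibre s G).left at h1
    rw [D.dim_fibre s, D'.dim_fibre s, hrank] at h1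
    have : Module.finrank ℤ D.M + Fintype.card D'.idx ≤ Module.finrank ℤ D.M + Fintype.card D.idx := by exact_mod_cast h1
    omega
  let E : D.idx ≃ D'.idx := Equiv.ofBijective e ⟨heinj,
    ((Fintype.bijective_iff_injective_and_card e).2 ⟨heinj, le_antisymm
      (Fintype.card_le_of_injective e heinj) hcard⟩).2⟩
  -- the coroots
  have hcor : ∀ a, (D.P.coroot a) ∘ₗ f.toIntLinearMap = (i a : ℤ) • D'.P.coroot (e a) := by
    intro a
    obtain ⟨n, hn⟩ := D.refl a
    let nψ : 𝟙_ (Over SK) ⟶ G' := n ≫ ψ
    let A : D'.T ⟶ G' := (toUnit D'.T ≫ nψ) * D'.i * (toUnit D'.T ≫ nψ)⁻¹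
    let s : D.T ⟶ D.T := D.split.hom.hom.hom ≫ Red.DSmap SK (D.P.reflection a).toLinearMap.toAddMonoidHom ≫
      D.split.inv.hom.hom
    have hA : φ ≫ A = s ≫ φ ≫ D'.i := by
      have h1 := hn D.T (𝟙 _)
      simp only [Category.id_comp] at h1
      have h2 := congrArg (· ≫ ψ) h1
      simp only [MonObj.mul_comp, GrpObj.inv_comp, Category.assoc, ← hφ] at h2
      simp only [A, s, MonObj.comp_mul, GrpObj.comp_inv, ← Category.assoc φ (toUnit _),
        toUnit_unique (φ ≫ toUnit D'.T) (toUnit D.T), nψ, Category.assoc]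
      exact h2
    haveI := Groth.L08.Borel.smooth_of_isTorus D'.maximalTorus.2.2.1
    haveI : IsReduced D'.T.left := Groth.Agent.AV.isReduced_of_smooth_field D'.T.hom
    obtain ⟨w, hw⟩ := Groth.L19.AlgGrpBasic.exists_lift_of_range D'.i A (by
      rintro _ ⟨y, rfl⟩
      obtain ⟨x, rfl⟩ := hsurj.surj y
      exact ⟨(s ≫ φ).left x, by rw [← Scheme.Hom.comp_apply, ← Scheme.Hom.comp_apply, ← Over.comp_left,
        ← Over.comp_left, hA, Category.assoc]⟩)
    haveI : ConnectedSpace (𝟙_ (Over SK)).left := inferInstanceAs (ConnectedSpace (PrimeSpectrum k))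
    obtain ⟨l, hl⟩ := exists_word_of_normalizer bD' nψ fun X' y t => ⟨t ≫ w, by
      rw [Category.assoc, hw]
      simp only [A, MonObj.comp_mul, GrpObj.comp_inv, ← Category.assoc t (toUnit _),
        toUnit_unique (t ≫ toUnit D'.T) y]⟩
    let L : D'.M ≃ₗ[ℤ] D'.M := (l.map fun c => D'.P.reflection c).prod
    have hfL : ∀ m, f (L m) = D.P.reflection a (f m) := by
      have h1 := hl D.T (toUnit _) φ
      have h2 : φ ≫ A = (toUnit D.T ≫ nψ) * (φ ≫ D'.i) * (toUnit D.T ≫ nψ)⁻¹ := by
        simp only [A, MonObj.comp_mul, GrpObj.comp_inv, ← Category.assoc φ (toUnit _),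
          toUnit_unique (φ ≫ toUnit D'.T) (toUnit D.T)]
      rw [← h2, hA, hf] at h1
      simp only [s, Category.assoc, reassoc_of% split_inv_hom] at h1
      simp only [← Category.assoc] at h1
      haveI : IsIso D'.split.inv.hom.hom := ⟨_, split_inv_hom, split_hom_inv⟩
      rw [cancel_mono, cancel_mono] at h1
      simp only [Category.assoc] at h1
      haveI : IsIso D.split.hom.hom.hom := ⟨_, split_hom_inv, split_inv_hom⟩
      rw [cancel_epi, TorusTorsion.DSmap_comp, TorusTorsion.DSmap_comp] at h1
      exact fun m => (DFunLike.congr_fun (DSmap_injective' h1) m).symm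
    have hLa : L (D'.P.root (e a)) = -D'.P.root (e a) := hinj (by
      rw [hfL, he, map_zsmul, RootPairing.reflection_apply_self, map_neg, he, smul_neg])
    let a' := e a
    let l' := a' :: l
    let u : D'.M ≃ₗ[ℤ] D'.M := (l'.map fun c => D'.P.reflection c).prod
    have hu : ∀ m, u m = D'.P.reflection a' (L m) := fun m => by
      simp only [u, l', L, List.map_cons, List.prod_cons]; rfl
    have hua : u (D'.P.root a') = D'.P.root a' := by
      rw [hu, hLa, map_neg, RootPairing.reflection_apply_self, neg_neg]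
    have hline : ∀ m, ∃ t : ℤ, (i a : ℤ) • (u m - m) = t • D'.P.root a' := fun m => by
      refine ⟨(-D'.P.coroot a' (L m)) * (i a : ℤ) + -D.P.coroot a (f m), hinj ?_⟩
      have h1 : f (L m) = f m - D.P.coroot a (f m) • D.P.root a := by rw [hfL, dual_apply]
      rw [map_zsmul, map_sub, hu, dual_apply, map_sub, map_zsmul, h1, he, map_zsmul, he]
      module
    have hfix : ∀ c, RedSub.wordPerm D'.P l' c = c := fun c => by
      obtain ⟨t, ht⟩ := hline (D'.P.root c)
      refine D'.P.root.injective ?_
      rw [← prod_refl_root]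
      show u (D'.P.root c) = _
      by_contra hne
      have hne' : t ≠ 0 := fun h0 => hne (sub_eq_zero.1 ((smul_eq_zero.1
        (ht.trans (by rw [h0, zero_smul]))).resolve_left (Int.natCast_ne_zero.2 (hi a).ne')))
      have hiter : ∀ n : ℕ, (i a : ℤ) • (u^[n] (D'.P.root c) - D'.P.root c) = ((n : ℤ) * t) • D'.P.root a' := by
        intro n
        induction n with
        | zero => simp
        | succ n ih =>
          rw [Function.iterate_succ_apply']
          have h2 : u ((i a : ℤ) • u^[n] (D'.P.root c)) =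
              u ((i a : ℤ) • D'.P.root c + ((n : ℤ) * t) • D'.P.root a') := by
            rw [← ih, smul_sub, add_sub_cancel]
          rw [map_zsmul, map_add, map_zsmul, map_zsmul, hua] at h2
          rw [smul_sub, h2, Nat.cast_succ, add_mul, _root_.one_mul, add_smul]
          rw [show (i a : ℤ) • u (D'.P.root c) = t • D'.P.root a' + (i a : ℤ) • D'.P.root c from
            sub_eq_iff_eq_add.1 ((smul_sub _ _ _).symm.trans ht)]
          abel
      have hroots : ∀ n : ℕ, ∃ d, u^[n] (D'.P.root c) = D'.P.root d := fun n => by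
        induction n with
        | zero => exact ⟨c, rfl⟩
        | succ n ih =>
          obtain ⟨d, hd⟩ := ih
          exact ⟨_, by rw [Function.iterate_succ_apply', hd, prod_refl_root]⟩
      choose d hd using hroots
      have hdinj : Function.Injective d := fun p q hpq => by
        have h1 := hiter p
        rw [hd, hpq, ← hd, hiter q] at h1
        have := smul_left_injective ℤ (D'.P.ne_zero a') h1
        exact_mod_cast (mul_right_cancel₀ hne' this).symm
      exact not_injective_infinite_finite d hdinj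
    have hL : ∀ m, L m = D'.P.reflection a' m := fun m => by
      have := prod_refl_eq_one D' bD' l' hfix m
      rw [show ((l'.map fun c => D'.P.reflection c).prod : D'.M ≃ₗ[ℤ] D'.M) m = D'.P.reflection a' (L m) from hu m] at this
      conv_rhs => rw [← this]
      rw [RootPairing.reflection_same]
    refine LinearMap.ext fun m => smul_left_injective ℤ (D.P.ne_zero a) ?_
    have h1 := hfL m
    rw [hL, dual_apply, dual_apply, map_sub, map_zsmul, he, sub_right_inj, smul_smul] at h1
    simp only [LinearMap.comp_apply, AddMonoidHom.coe_toIntLinearMap, LinearMap.smul_apply, smul_eq_mul]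
    rw [← h1, mul_comm]
  refine ⟨⟨f.toIntLinearMap, hinj, hcoker, E, i, hipow, he, hcor⟩, ?_⟩
  rw [hf]
  simp only [Category.assoc, split_inv_hom, Category.comp_id, reassoc_of% split_inv_hom]
  rfl

end Split

end Groth.L14.Isog
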