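import Groth.Agent.L14.Isog.Data
import Groth.Agent.L08.Borel.GenNilp

/-!
# The root data of two splittings
-/

set_option autoImplicit false
set_option backward.isDefEq.respectTransparency.types false
set_option linter.style.haveILetI false
set_option linter.unusedSectionVars false
set_option maxHeartbeats 1000000

universe u

open CategoryTheory CategoryTheory.Limits MonoidalCategory CartesianMonoidalCategory MonObj GrpObj AlgebraicGeometry
open Groth.L14.RankOne Groth.L25 Groth.L14.Chart Groth.L14.Chev Groth.L14.Chev.Cell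

noncomputable section

namespace Groth.L14.Isog

attribute [local instance] Red.SplitRed.grpT Red.SplitRed.acgM Red.SplitRed.finiteM Red.SplitRed.freeM
  Red.SplitRed.fintypeIdx

variable {k : Type u} [Field k] {G G' : Over (Spec (CommRingCat.of k))} [GrpObj G] [GrpObj G']
  (D : Red.SplitRed G) (D' : Red.SplitRed G')

local notation "SK" => Spec (CommRingCat.of k)

/-- **An isomorphism of split groups respecting the tori gives an isomorphism of root data.** -/
theorem nonempty_equiv (ψ : G ⟶ G') [IsMonHom ψ] [IsIso ψ] (φ : D.T ⟶ D'.T) [IsIso φ]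
    (hφ : φ ≫ D'.i = D.i ≫ ψ) : Nonempty (RootPairing.Equiv D.P D'.P) := by
  haveI : Finite D'.idx := Finite.of_fintype _
  haveI : IsIso ψ.left := inferInstanceAs (IsIso ((Over.forget _).map ψ))
  haveI : IsIso (inv ψ).left := inferInstanceAs (IsIso ((Over.forget _).map (inv ψ)))
  haveI : IsMonHom (inv ψ) := inferInstanceAs (IsMonHom (asIso ψ).inv)
  have hφ' : inv φ ≫ D.i = D'.i ≫ inv ψ := by
    rw [IsIso.inv_comp_eq, ← Category.assoc, hφ, Category.assoc, IsIso.hom_inv_id, Category.comp_id]
  obtain ⟨ρ, hρ⟩ := exists_rootIsog D D' ψ φ hφ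
  obtain ⟨σ, hσ⟩ := exists_rootIsog D' D (inv ψ) (inv φ) hφ'
  have h1 : ∀ m, ρ.f (σ.f m) = m := by
    have e : Red.DSmap SK (ρ.f.toAddMonoidHom.comp σ.f.toAddMonoidHom) = Red.DSmap SK (AddMonoidHom.id D.M) := by
      rw [← TorusTorsion.DSmap_comp, ← hρ, ← hσ, TorusTorsion.DSmap_id]
      simp only [Category.assoc, reassoc_of% split_hom_inv, IsIso.hom_inv_id_assoc, split_inv_hom]
    exact fun m => DFunLike.congr_fun (DSmap_injective' e) m
  have h2 : ∀ m, σ.f (ρ.f m) = m := fun m => ρ.injective (h1 _)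
  haveI : IsAddTorsionFree D'.M := .of_isTorsionFree ℤ _
  haveI : D'.P.IsReduced := Groth.L14.Luna.SemiRank.isReduced_splitRed D'
  obtain ⟨bD', -⟩ := Groth.L14.Luna.SemiRank.exists_base_ge (P := D'.P) (R' := ∅)
    (fun i _ _ hi _ _ => absurd hi (Set.notMem_empty i)) (fun i hi => absurd hi (Set.notMem_empty i))
  have hpos : ∀ {p : ℕ} {q : ℕ} (m : ℕ), q = p ^ m → p ≠ 0 → q ≠ 0 := fun m h hp => h ▸ pow_ne_zero m hp
  have hq : ∀ a, ρ.q a = 1 := by
    intro a
    let b := σ.e.symm a
    have ha : D.P.root a = D.P.root (σ.e b) := by simp [b]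
    have e : (1 : ℤ) • D'.P.root (ρ.e a) = ((ρ.q a : ℤ) * (σ.q b : ℤ)) • D'.P.root b := by
      rw [one_smul, ← h2 (D'.P.root (ρ.e a)), ρ.root, map_zsmul, ha, σ.root, smul_smul]
    have hp : ringExpChar k ≠ 0 := (expChar_pos k (ringExpChar k)).ne'
    obtain ⟨m, hm⟩ := ρ.q_pow a
    obtain ⟨m', hm'⟩ := σ.q_pow b
    have hab : (0 : ℤ) < (ρ.q a : ℤ) * (σ.q b : ℤ) := by
      have := Nat.pos_of_ne_zero (hpos m hm hp)
      have := Nat.pos_of_ne_zero (hpos m' hm' hp)
      positivity
    rcases eq_or_neg_of_dep D'.P bD' one_ne_zero e with h | h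
    · rw [h] at e
      have := smul_left_injective ℤ (D'.P.ne_zero b) e
      exact Nat.eq_one_of_mul_eq_one_right (by exact_mod_cast this.symm : ρ.q a * σ.q b = 1)
    · rw [h, smul_neg, ← neg_smul] at e
      have := smul_left_injective ℤ (D'.P.ne_zero b) e
      omega
  have hroot : ∀ a, σ.f (D.P.root a) = D'.P.root (ρ.e a) := fun a => by
    have e := ρ.root a
    rw [hq, Nat.cast_one, one_smul] at e
    rw [← e, h2]
  have hcor : ∀ a, D'.P.coroot (ρ.e a) ∘ₗ σ.f = D.P.coroot a := fun a => by
    have e := ρ.coroot a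
    rw [hq, Nat.cast_one, one_smul] at e
    rw [← e]
    exact LinearMap.ext fun m => by simp [h1]
  refine ⟨{ weightMap := σ.f
            coweightMap := σ.f.dualMap
            indexEquiv := ρ.e
            weight_coweight_transpose := ?_
            root_weightMap := funext hroot
            coroot_coweightMap := funext fun b => ?_
            bijective_weightMap := ⟨σ.injective, fun m => ⟨ρ.f m, h2 m⟩⟩
            bijective_coweightMap := ⟨fun y z h => LinearMap.ext fun m => ?_, fun y => ⟨y ∘ₗ ρ.f, ?_⟩⟩ }⟩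
  · refine LinearMap.ext fun y => LinearMap.ext fun m => ?_
    show D'.P.flip.toPerfPair y (σ.f m) = D.P.flip.toPerfPair (σ.f.dualMap y) m
    show D'.P.toLinearMap (σ.f m) y = D.P.toLinearMap m (σ.f.dualMap y)
    rw [D.pairing_eq, D'.pairing_eq]
    rfl
  · show σ.f.dualMap (D'.P.coroot b) = D.P.coroot (ρ.e.symm b)
    rw [← hcor (ρ.e.symm b), Equiv.apply_symm_apply]
    rfl
  · have := LinearMap.congr_fun h (ρ.f m)
    simpa [h2] using this
  · exact LinearMap.ext fun m => by simp [h1]

end Groth.L14.Isog
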